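import Groth.Agent.SpQS.CodimOne

/-!
Finite fibres of birational morphisms of finite type over points of codimension at most one.
-/

set_option autoImplicit false
set_option linter.style.haveILetI false
set_option backward.isDefEq.respectTransparency false
set_option backward.isDefEq.respectTransparency.types false

universe u

open CategoryTheory AlgebraicGeometry

namespace Groth.Agent.BiratFib

/-- Birational morphisms of finite type have finite fibres over points of codimension at most one. -/
theorem finite_fiber {X Y : Scheme.{u}} [IsLocallyNoetherian X] [IsLocallyNoetherian Y] (f : Y ⟶ X)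
    [LocallyOfFiniteType f] [QuasiCompact f] (U : X.Opens) (hU' : Dense ((f ⁻¹ᵁ U : Y.Opens) : Set Y))
    (hiso : IsIso (f ∣_ U)) (x : X) (hx : ringKrullDim (X.presheaf.stalk x) ≤ 1) :
    (f.base ⁻¹' {x}).Finite := by
  haveI := hiso
  have hlqf : LocallyQuasiFinite ((f ⁻¹ᵁ U).ι ≫ f) := by
    rw [← morphismRestrict_ι f U]
    infer_instance
  have hgen : ∀ η : Y, SpQS.IsMaxPt η → f η ⤳ x → f.QuasiFiniteAt η := by
    intro η hη _
    have hmem : η ∈ ((f ⁻¹ᵁ U : Y.Opens) : Set Y) :=
      SpQS.isMaxPt_mem_of_dense hη (f ⁻¹ᵁ U).isOpen hU'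
    exact (Scheme.Hom.quasiFiniteAt_comp_iff_of_isOpenImmersion (f := (f ⁻¹ᵁ U).ι) (g := f)
      (x := ⟨η, hmem⟩)).1 (Scheme.Hom.quasiFiniteAt _ _)
  have hqf : ∀ y : Y, f y = x → f.QuasiFiniteAt y := fun y hy =>
    SpQS.qf_over_codim_one f x hx hgen y hy
  haveI : DiscreteTopology (f.fiber x) := discreteTopology_iff_isOpen_singleton.2 fun p => by
    have hpx : f (f.fiberι x p) = x := by
      have hmem : f.fiberι x p ∈ f ⁻¹' {x} := Scheme.Hom.range_fiberι f x ▸ Set.mem_range_self p
      exact hmem
    generalize hy : f.fiberι x p = y at hpx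
    subst hpx
    have hp : p = f.asFiber y := by
      refine (f.fiberι (f y)).isEmbedding.injective (hy.trans ?_)
      simp
    rw [hp]
    exact Scheme.Hom.quasiFiniteAt_iff_isOpen_singleton_asFiber.1 (hqf y rfl)
  haveI : CompactSpace (f.fiber x) := QuasiCompact.compactSpace_of_compactSpace (f.fiberToSpecResidueField x)
  haveI : Finite (f.fiber x) := finite_of_compact_of_discrete
  rw [← Scheme.Hom.range_fiberι f x]
  exact Set.finite_range _

end Groth.Agent.BiratFib
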